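import Cfsg.Agent.Lib.Core.Cores
import Cfsg.Agent.Lib.Core.Fitting
import Cfsg.Agent.Lib.GW.Basic
import Cfsg.Agent.Lib.ZStar.Main
import Mathlib.GroupTheory.Complement

/-!
# Abelian Sylow 2-subgroups and an odd complement

Groups with abelian Sylow 2-subgroups: heredity, and the invariant odd subgroups of a group with an odd
subgroup of index the full power of two.
-/

set_option autoImplicit false
set_option linter.style.haveILetI false

namespace Cfsg.Lib.OddFactor

open Subgroup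

/-- The 2-subgroups are commutative. -/
def AbTwo (X : Type*) [Group X] : Prop :=
  ∀ P : Subgroup X, IsPGroup 2 P → IsMulCommutative P

theorem abTwo_of_sylow {X : Type*} [Group X] [Finite X]
    (h : ∀ P : Sylow 2 X, IsMulCommutative (P : Subgroup X)) : AbTwo X := by
  intro K hK
  obtain ⟨P, hP⟩ := hK.exists_le_sylow
  exact ⟨⟨fun a b => Subtype.ext (congrArg Subtype.val ((h P).is_comm.comm ⟨a, hP a.2⟩ ⟨b, hP b.2⟩) :)⟩⟩

theorem AbTwo.comm {X : Type*} [Group X] (h : AbTwo X) {P : Subgroup X} (hP : IsPGroup 2 P) {a b : X}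
    (ha : a ∈ P) (hb : b ∈ P) : Commute a b :=
  congrArg Subtype.val ((h P hP).is_comm.comm ⟨a, ha⟩ ⟨b, hb⟩)

theorem AbTwo.subgroup {X : Type*} [Group X] (h : AbTwo X) (K : Subgroup X) : AbTwo K := fun P hP =>
  ⟨⟨fun a b => Subtype.ext (Subtype.ext
    (h.comm (hP.map K.subtype) (mem_map_of_mem _ a.2) (mem_map_of_mem _ b.2)))⟩⟩

theorem AbTwo.quotient {X : Type*} [Group X] [Finite X] (h : AbTwo X) (N : Subgroup X) [N.Normal] :
    AbTwo (X ⧸ N) := by
  haveI : Fact (Nat.Prime 2) := ⟨Nat.prime_two⟩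
  refine abTwo_of_sylow fun P => ?_
  obtain ⟨Q, rfl⟩ := Sylow.mapSurjective_surjective (QuotientGroup.mk'_surjective N) 2 P
  refine ⟨⟨fun a b => ?_⟩⟩
  obtain ⟨a', ha', ea⟩ := a.2
  obtain ⟨b', hb', eb⟩ := b.2
  refine Subtype.ext ?_
  show (a : X ⧸ N) * b = b * a
  rw [← ea, ← eb, ← map_mul, ← map_mul, (h.comm Q.2 ha' hb').eq]

variable {X : Type*} [Group X] [Finite X]

/-- An odd subgroup of 2-power index has the order of a Sylow 2-subgroup as its index. -/
theorem index_eq (P : Sylow 2 X) {H : Subgroup X} (hH : Odd (Nat.card H)) {k : ℕ} (hk : H.index = 2 ^ k) :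
    H.index = Nat.card (P : Subgroup X) := by
  haveI : Fact (Nat.Prime 2) := ⟨Nat.prime_two⟩
  rw [P.card_eq_multiplicity, ← card_mul_index H, Nat.factorization_mul Nat.card_pos.ne' index_ne_zero_of_finite,
    Finsupp.add_apply, Nat.factorization_eq_zero_of_not_dvd (fun h => Nat.not_even_iff_odd.2 hH (even_iff_two_dvd.2 h)),
    zero_add, hk, Nat.prime_two.factorization_pow, Finsupp.single_eq_same]

/-- An odd element and a 2-element subgroup meet trivially. -/
theorem eq_one_of_mem {P H : Subgroup X} (hP : IsPGroup 2 P) (hH : Odd (Nat.card H)) {x : X} (hxP : x ∈ P)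
    (hxH : x ∈ H) : x = 1 := by
  obtain ⟨k, hk⟩ := hP ⟨x, hxP⟩
  refine orderOf_eq_one_iff.1 (Nat.eq_one_of_dvd_coprimes
    ((Nat.coprime_two_left.2 hH).pow_left k) (orderOf_dvd_of_pow_eq_one (by simpa using congrArg Subtype.val hk)) ?_)
  rw [← Subgroup.orderOf_mk x hxH]
  exact orderOf_dvd_natCard _

/-- `X = P H`. -/
theorem exists_mul (P : Sylow 2 X) {H : Subgroup X} (hH : Odd (Nat.card H)) {k : ℕ} (hk : H.index = 2 ^ k)
    (g : X) : ∃ p ∈ (P : Subgroup X), ∃ h ∈ H, g = p * h := by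
  have hbij : Function.Bijective (fun z : ↥(P : Subgroup X) × H => (z.1 : X) * z.2) := by
    refine (Nat.bijective_iff_injective_and_card _).2 ⟨?_, by
      rw [Nat.card_prod, ← index_eq P hH hk, mul_comm, card_mul_index]⟩
    rintro ⟨p, h⟩ ⟨p', h'⟩ he
    simp only at he
    have h1 : (p' : X)⁻¹ * p = h' * (h : X)⁻¹ := by
      rw [eq_mul_inv_iff_mul_eq, mul_assoc, he, inv_mul_cancel_left]
    have h2 := eq_one_of_mem P.2 hH (mul_mem (inv_mem p'.2) p.2) (h1 ▸ mul_mem h'.2 (inv_mem h.2))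
    have hp : (p' : X) = p := inv_mul_eq_one.1 h2
    rw [hp] at he
    exact Prod.ext (Subtype.ext hp.symm) (Subtype.ext (mul_left_cancel he))
  obtain ⟨⟨p, h⟩, rfl⟩ := hbij.2 g
  exact ⟨p, p.2, h, h.2, rfl⟩

/-- In a subgroup through the Sylow subgroup, the odd factor keeps its index. -/
theorem relIndex_eq (P : Sylow 2 X) {H : Subgroup X} (hH : Odd (Nat.card H)) {k : ℕ} (hk : H.index = 2 ^ k)
    {M : Subgroup X} (hPM : (P : Subgroup X) ≤ M) : H.relIndex M = Nat.card (P : Subgroup X) := by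
  have hle : H.relIndex M ≤ Nat.card (P : Subgroup X) := by
    rw [← index_eq P hH hk]
    rw [← relIndex_top_right]
    exact relIndex_le_of_le_right le_top (by rw [relIndex_top_right]; exact index_ne_zero_of_finite)
  refine le_antisymm hle (Nat.le_of_dvd (Nat.pos_of_ne_zero index_ne_zero_of_finite) ?_)
  have h1 : Nat.card ↥(H ⊓ M) * H.relIndex M = Nat.card M := by
    have h2 := relIndex_mul_relIndex (⊥ : Subgroup X) (H ⊓ M) M bot_le inf_le_right
    rwa [relIndex_bot_left, relIndex_bot_left, inf_relIndex_right] at h2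
  have hodd : Odd (Nat.card ↥(H ⊓ M)) := hH.of_dvd_nat (card_dvd_of_le inf_le_left)
  have hd := card_dvd_of_le hPM
  obtain ⟨n, hn⟩ := P.2.exists_card_eq
  rw [hn] at hd ⊢
  rw [← h1] at hd
  exact ((Nat.coprime_two_left.2 hodd).pow_left n).dvd_of_dvd_mul_left hd

/-- An odd subgroup normalised by the Sylow subgroup lies in the odd factor, with all its conjugates. -/
theorem normalClosure_le (P : Sylow 2 X) {H : Subgroup X} (hH : Odd (Nat.card H)) {k : ℕ} (hk : H.index = 2 ^ k)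
    {W : Subgroup X} (hW : Odd (Nat.card W)) (hPW : (P : Subgroup X) ≤ normalizer (W : Set X)) :
    normalClosure (W : Set X) ≤ H := by
  set M := W ⊔ (P : Subgroup X) with hM
  have hmem : ∀ x ∈ M, ∃ w ∈ W, ∃ p ∈ (P : Subgroup X), x = w * p := fun x hx => by
    rw [hM, ← SetLike.mem_coe, coe_mul_of_right_le_normalizer_left W (P : Subgroup X) hPW] at hx
    obtain ⟨w, hw, p, hp, rfl⟩ := hx
    exact ⟨w, hw, p, hp, rfl⟩
  -- the odd elements of `M` lie in `W`
  have hle : H ⊓ M ≤ W := by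
    rintro x ⟨hxH, hxM⟩
    obtain ⟨w, hw, p, hp, rfl⟩ := hmem x hxM
    obtain ⟨m, hm⟩ := P.2 ⟨p, hp⟩
    have hodd : Odd (orderOf (w * p)) := hH.of_dvd_nat (by
      rw [← Subgroup.orderOf_mk _ hxH]; exact orderOf_dvd_natCard _)
    -- powers of `w p` stay over the powers of `p`
    have hpow : ∀ n : ℕ, ∃ w' ∈ W, (w * p) ^ n = w' * p ^ n := by
      intro n
      induction n with
      | zero => exact ⟨1, one_mem _, by simp⟩
      | succ n ih =>
        obtain ⟨w', hw', e⟩ := ih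
        refine ⟨w' * (p ^ n * w * (p ^ n)⁻¹), mul_mem hw'
          ((mem_normalizer_iff.1 (hPW (pow_mem hp n)) w).1 hw), ?_⟩
        rw [pow_succ, e, pow_succ]
        group
    obtain ⟨w', hw', e⟩ := hpow (orderOf (w * p))
    rw [pow_orderOf_eq_one] at e
    have hpW : p ^ orderOf (w * p) ∈ W := by
      rw [← inv_mul_cancel_left w' (p ^ orderOf (w * p)), ← e, mul_one]; exact inv_mem hw'
    have hp1 := eq_one_of_mem P.2 hW (pow_mem hp _) hpW
    have hp2 : orderOf p ∣ 2 ^ m := orderOf_dvd_of_pow_eq_one (by simpa using congrArg Subtype.val hm)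
    have : p = 1 := orderOf_eq_one_iff.1 (Nat.eq_one_of_dvd_coprimes
      ((Nat.coprime_two_left.2 hodd).pow_left m) hp2 (orderOf_dvd_of_pow_eq_one hp1))
    rw [this, mul_one]; exact hw
  have hcard : Nat.card W ≤ Nat.card ↥(H ⊓ M) := by
    have hdisj : Nat.card M = Nat.card W * Nat.card (P : Subgroup X) := by
      rw [← Nat.card_prod]
      refine (Nat.card_eq_of_bijective (fun z : W × (P : Subgroup X) =>
        (⟨(z.1 : X) * z.2, mul_mem (mem_sup_left z.1.2) (mem_sup_right z.2.2)⟩ : M)) ⟨?_, ?_⟩).symm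
      · rintro ⟨w, p⟩ ⟨w', p'⟩ he
        have he' : (w : X) * p = w' * p' := congrArg Subtype.val he
        have h1 : (w' : X)⁻¹ * w = p' * (p : X)⁻¹ := by
          rw [eq_mul_inv_iff_mul_eq, mul_assoc, he', inv_mul_cancel_left]
        have h2 := eq_one_of_mem P.2 hW (h1 ▸ mul_mem p'.2 (inv_mem p.2)) (mul_mem (inv_mem w'.2) w.2)
        have hw : (w' : X) = w := inv_mul_eq_one.1 h2
        rw [hw] at he'
        exact Prod.ext (Subtype.ext hw.symm) (Subtype.ext (mul_left_cancel he'))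
      · rintro ⟨x, hx⟩
        obtain ⟨w, hw, p, hp, rfl⟩ := hmem x hx
        exact ⟨(⟨w, hw⟩, ⟨p, hp⟩), rfl⟩
    have h2 := relIndex_mul_relIndex (⊥ : Subgroup X) (H ⊓ M) M bot_le inf_le_right
    rw [relIndex_bot_left, relIndex_bot_left, inf_relIndex_right, hdisj,
      relIndex_eq P hH hk (le_sup_right : (P : Subgroup X) ≤ M)] at h2
    exact (Nat.eq_of_mul_eq_mul_right Nat.card_pos h2).ge
  have hWH : W ≤ H := (eq_of_le_of_card_ge hle hcard) ▸ inf_le_left
  refine (closure_le _).2 fun y hy => ?_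
  obtain ⟨w, hw, hc⟩ := Group.mem_conjugatesOfSet_iff.1 hy
  obtain ⟨g, rfl⟩ := isConj_iff.1 hc
  obtain ⟨p, hp, h, hh, hg⟩ := exists_mul P hH hk g⁻¹
  rw [SetLike.mem_coe, show g * w * g⁻¹ = h⁻¹ * (p⁻¹ * w * p⁻¹⁻¹) * h by rw [← inv_inv g, hg]; group]
  exact mul_mem (mul_mem (inv_mem hh) (hWH ((mem_normalizer_iff.1 (hPW (inv_mem hp)) w).1 hw))) hh

end Cfsg.Lib.OddFactor
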