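import Cfsg.Agent.Lib.OddFactor.Basic
import Cfsg.Agent.S0002
import Cfsg.Agent.S0018
import Cfsg.Agent.S1225
import Cfsg.Agent.Lib.Kazarin.Radical
import Cfsg.Agent.Lib.Invol.SylowTools
import Cfsg.Agent.Lib.PGroup.Elements
import Cfsg.Agent.S0089

/-!
# Abelian Sylow 2-subgroups and subgroups of 2-power index

An odd subgroup of 2-power index makes a group with abelian Sylow 2-subgroups solvable: in a simple
counterexample the normalizer of the Sylow subgroup would be strongly embedded, and the intersection with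
a conjugate would fix a single coset of the odd factor, which an involution cannot fix. Hence a subgroup of
2-power index contains every perfect normal subgroup.
-/

set_option autoImplicit false
set_option linter.style.haveILetI false

namespace Cfsg.Lib.OddFactor

open Subgroup

universe v

/-- A simple group with abelian Sylow 2-subgroups has no odd subgroup of 2-power index. -/
theorem false_of_simple {X : Type v} [Group X] [Finite X] [IsSimpleGroup X] (hns : ¬ Group.IsSolvable X)
    (hab : AbTwo X) {H : Subgroup X} (hH : Odd (Nat.card H)) {k : ℕ} (hk : H.index = 2 ^ k)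
    (ih : ∀ M : Subgroup X, M ≠ ⊤ → ∀ P : Sylow 2 X, (P : Subgroup X) ≤ M → Group.IsSolvable M) : False := by
  haveI : Fact (Nat.Prime 2) := ⟨Nat.prime_two⟩
  have hodd_solv : ∀ {Y : Type v} [Group Y] [Finite Y], Odd (Nat.card Y) → Group.IsSolvable Y := fun h =>
    GW.isSolvable_of_not_four_dvd fun h4 =>
      Nat.not_even_iff_odd.2 h (even_iff_two_dvd.2 ((show 2 ∣ 4 by norm_num).trans h4))
  have hnormal : ∀ N : Subgroup X, N.Normal → Odd (Nat.card N) → N = ⊥ := by
    intro N hN hNodd
    rcases hN.eq_bot_or_eq_top with h | h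
    · exact h
    · subst h
      exact (hns (hodd_solv (by rwa [card_top] at hNodd))).elim
  have hHtop : H ≠ ⊤ := fun h => hns (hodd_solv (by rw [h, card_top] at hH; exact hH))
  obtain ⟨P⟩ : Nonempty (Sylow 2 X) := inferInstance
  haveI := hab _ P.2
  have hO : Cfsg.oddCore X = ⊥ := hnormal _ (by unfold Cfsg.oddCore; infer_instance) ZStar.odd_card_oddCore
  have hcenter : center X = ⊥ := by
    rcases (inferInstance : (center X).Normal).eq_bot_or_eq_top with h | h
    · exact h
    · refine absurd ?_ hns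
      haveI : IsMulCommutative X := ⟨⟨fun a b => ((mem_center_iff.1 (h ▸ mem_top b : b ∈ center X)) a)⟩⟩
      exact Core.isSolvable_of_isMulCommutative X
  -- no nontrivial odd subgroup is invariant under `P`
  have hinv : ∀ W : Subgroup X, Odd (Nat.card W) → (P : Subgroup X) ≤ normalizer (W : Set X) → W = ⊥ := by
    intro W hW hPW
    have hle := normalClosure_le P hH hk hW hPW
    rcases (normalClosure_normal (s := (W : Set X))).eq_bot_or_eq_top with h | h
    · exact eq_bot_iff.2 (h ▸ subset_normalClosure)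
    · exact absurd (top_le_iff.1 (h ▸ hle)) hHtop
  -- the centralizers of involutions normalise `P`
  have hcent : ∀ t ∈ (P : Subgroup X), orderOf t = 2 →
      centralizer ({t} : Set X) ≤ normalizer ((P : Subgroup X) : Set X) := by
    intro t ht ht2
    set C := centralizer ({t} : Set X)
    have hPC : (P : Subgroup X) ≤ C := fun x hx =>
      mem_centralizer_singleton_iff.2 (hab.comm P.2 hx ht).eq
    have hC : C ≠ ⊤ := fun h => by
      have h1 : t ∈ center X := mem_center_iff.2 fun g =>
        mem_centralizer_singleton_iff.1 (h ▸ mem_top g : g ∈ C)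
      rw [hcenter, mem_bot] at h1
      exact Invol.ne_one ht2 h1
    haveI := ih C hC P hPC
    set O := (Cfsg.pPrimeCore 2 C).map C.subtype
    have hOodd : Odd (Nat.card O) := by
      rw [card_map_of_injective C.subtype_injective]
      exact Nat.coprime_two_right.1 (Core.pPrimeCore_coprime 2 C)
    have hOn : (P : Subgroup X) ≤ normalizer (O : Set X) := fun p hp => by
      rw [mem_normalizer_iff]
      have key : ∀ q : C, ∀ z ∈ O, (q : X) * z * (q : X)⁻¹ ∈ O := by
        rintro q _ ⟨z, hz, rfl⟩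
        exact ⟨q * z * q⁻¹, (inferInstance : (Cfsg.pPrimeCore 2 C).Normal).conj_mem z hz q, rfl⟩
      intro z
      refine ⟨key ⟨p, hPC hp⟩ z, fun hz => ?_⟩
      have := key ⟨p, hPC hp⟩⁻¹ _ hz
      simpa [mul_assoc] using this
    have hO1 : Cfsg.pPrimeCore 2 C = ⊥ := by
      rw [← map_eq_bot_iff_of_injective _ C.subtype_injective]; exact hinv O hOodd hOn
    have hn := Cfsg.Agent.S0018.result (G := C) 2 (P.subtype hPC) ((hab.subgroup C) _ (P.subtype hPC).2)
    rw [hO1, sup_bot_eq] at hn
    intro c hc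
    rw [mem_normalizer_iff]
    have key : ∀ q : C, ∀ z ∈ (P : Subgroup X), (q : X) * z * (q : X)⁻¹ ∈ (P : Subgroup X) := fun q z hz => by
      have h := hn.conj_mem ⟨z, hPC hz⟩ (by rw [Sylow.coe_subtype, mem_subgroupOf]; exact hz) q
      rw [Sylow.coe_subtype, mem_subgroupOf] at h
      exact h
    intro z
    refine ⟨key ⟨c, hc⟩ z, fun hz => ?_⟩
    have := key ⟨c, hc⟩⁻¹ _ hz
    simpa [mul_assoc] using this
  set N := normalizer ((P : Subgroup X) : Set X) with hNdef
  have hPN : (P : Subgroup X) ≤ N := le_normalizer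
  have hP1 : (P : Subgroup X) ≠ ⊥ := fun h => GW.not_isCyclic_sylow hns P (by rw [h]; infer_instance)
  -- two involutions in `P`
  obtain ⟨s₀, hs₀P, hs₀⟩ : ∃ s ∈ (P : Subgroup X), orderOf s = 2 := by
    haveI : Nontrivial (P : Subgroup X) := (Subgroup.nontrivial_iff_ne_bot _).2 hP1
    obtain ⟨x, hx⟩ := exists_prime_orderOf_dvd_card' (G := (P : Subgroup X)) 2 (by
      obtain ⟨n, hn⟩ := P.2.exists_card_eq
      rw [hn]
      refine dvd_pow_self 2 fun h0 => ?_
      rw [h0, pow_zero] at hn
      exact absurd hn (Finite.one_lt_card).ne')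
    exact ⟨x, x.2, by rwa [Subgroup.orderOf_coe]⟩
  have htwo : ∀ s, ∃ t ∈ (P : Subgroup X), orderOf t = 2 ∧ t ≠ s := by
    intro s
    by_contra hne
    push Not at hne
    have hz := ZStar.mem_center_of_isolated hO (ZStar.isolated_of_unique_involution P hs₀
      fun x hx hx2 => (hne x hx hx2).trans (hne s₀ hs₀P hs₀).symm)
    rw [hcenter, mem_bot] at hz
    exact Invol.ne_one hs₀ hz
  have hNtop : N ≠ ⊤ := fun h => by
    haveI := normalizer_eq_top_iff.1 h
    rcases (inferInstance : (P : Subgroup X).Normal).eq_bot_or_eq_top with h' | h'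
    · exact hP1 h'
    · haveI : Group.IsNilpotent X := IsPGroup.isNilpotent (p := 2)
        ((h' ▸ P.2 : IsPGroup 2 (⊤ : Subgroup X)).of_equiv topEquiv)
      exact hns inferInstance
  have hinN : ∀ t, orderOf t = 2 → t ∈ N → t ∈ (P : Subgroup X) := by
    intro t ht htN
    have hp : IsPGroup 2 (zpowers t) := IsPGroup.of_card (n := 1) (by rw [Nat.card_zpowers, ht, pow_one])
    exact ((hp.inf_normalizer_sylow P).le ⟨mem_zpowers t, htN⟩).2
  have hse : Cfsg.IsStronglyEmbedded N := by
    refine ⟨hNtop, ?_, fun g hg => ?_⟩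
    · rw [even_iff_two_dvd, ← hs₀, ← Subgroup.orderOf_mk s₀ (hPN hs₀P)]; exact orderOf_dvd_natCard _
    · rw [← Nat.not_even_iff_odd, even_iff_two_dvd]
      intro h2
      obtain ⟨⟨t, htN, htg⟩, ht⟩ := exists_prime_orderOf_dvd_card' 2 h2
      replace ht : orderOf t = 2 := by rw [← ht]; exact (Subgroup.orderOf_mk t _).symm
      obtain ⟨t', ht'N, rfl⟩ := htg
      have ht' : orderOf t' = 2 := by
        rwa [MulEquiv.coe_toMonoidHom, MulEquiv.orderOf_eq] at ht
      have hPg : ((P : Subgroup X).map (MulAut.conj g).toMonoidHom) ≤ N := by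
        rintro _ ⟨x, hx, rfl⟩
        refine hcent _ (hinN _ ht htN) ht ?_
        rw [mem_centralizer_singleton_iff, ← map_mul, ← map_mul,
          (hab.comm P.2 hx (hinN t' ht' ht'N)).eq]
      have hle : ((P : Subgroup X).map (MulAut.conj g).toMonoidHom) ≤ P := fun x hx =>
        (((P.2.map _).inf_normalizer_sylow P).le ⟨hx, hPg hx⟩).2
      refine hg (mem_normalizer_iff'.2 ?_)
      have heq : (P : Subgroup X).map (MulAut.conj g).toMonoidHom = P :=
        eq_of_le_of_card_ge hle (card_map_of_injective (MulEquiv.injective _)).ge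
      intro x
      constructor
      · intro hx
        have h1 : g * (x * g) * g⁻¹ ∈ (P : Subgroup X) := heq.le ⟨_, hx, rfl⟩
        rwa [show g * (x * g) * g⁻¹ = g * x by group] at h1
      · intro hx
        obtain ⟨y, hy, hye⟩ := heq.ge hx
        have : y = x * g := by
          have h1 : g * y * g⁻¹ = g * x := hye
          rw [mul_inv_eq_iff_eq_mul, mul_assoc] at h1
          exact mul_left_cancel h1
        exact this ▸ hy
  obtain ⟨u, hu, huN⟩ : ∃ u, orderOf u = 2 ∧ u ∉ N := by
    by_contra hne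
    push Not at hne
    have hle : normalClosure ({s₀} : Set X) ≤ N := (closure_le _).2 fun y hy => by
      obtain ⟨w, hw, hc⟩ := Group.mem_conjugatesOfSet_iff.1 hy
      obtain ⟨g, rfl⟩ := isConj_iff.1 hc
      exact hne _ (by rw [Invol.orderOf_conj_eq, Set.mem_singleton_iff.1 hw, hs₀])
    rcases (normalClosure_normal (s := ({s₀} : Set X))).eq_bot_or_eq_top with h | h
    · exact Invol.ne_one hs₀ (mem_bot.1 (h ▸ subset_normalClosure (Set.mem_singleton s₀)))
    · exact hNtop (top_le_iff.1 (h ▸ hle))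
  set D := N ⊓ N.map (MulAut.conj u).toMonoidHom
  have hDodd : Odd (Nat.card D) := hse.2.2 u huN
  have huu : u * u = 1 := Invol.inv_mul_self hu
  have hDu : ∀ d ∈ D, u * d * u⁻¹ ∈ D := by
    rintro d ⟨hdN, e, he, rfl⟩
    refine ⟨?_, (MulAut.conj u).toMonoidHom e, hdN, rfl⟩
    rw [MulEquiv.coe_toMonoidHom, MulAut.conj_apply, show u * (u * e * u⁻¹) * u⁻¹ = (u * u) * e * (u * u)⁻¹ by group,
      huu]
    simpa using he
  -- `D` fixes a coset of `H`
  obtain ⟨a, ha, haD⟩ : ∃ a ∈ (P : Subgroup X), ∀ d ∈ D, a * d * a⁻¹ ∈ H := by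
    set M := D ⊔ (P : Subgroup X)
    have hMN : M ≤ N := sup_le inf_le_left hPN
    haveI : ((P : Subgroup X).subgroupOf M).Normal :=
      normal_subgroupOf_iff_le_normalizer (le_sup_right : (P : Subgroup X) ≤ M) |>.2 hMN
    haveI : IsMulCommutative ((P : Subgroup X).subgroupOf M) := ⟨⟨fun x y =>
      Subtype.ext (Subtype.ext (hab.comm P.2 x.2 y.2))⟩⟩
    set A := (P : Subgroup X).subgroupOf M
    have hcA : Nat.card A = Nat.card (P : Subgroup X) := Nat.card_congr (subgroupOfEquivOfLe le_sup_right).toEquiv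
    have hcoA : (Nat.card A).Coprime A.index := by
      obtain ⟨n, hn⟩ := P.2.exists_card_eq
      rw [hcA, hn]
      refine Nat.Coprime.pow_left n (Nat.prime_two.coprime_iff_not_dvd.2 fun h => ?_)
      exact P.not_dvd_index (h.trans (relIndex_dvd_index_of_le le_sup_right))
    have hMcard : Nat.card M = Nat.card D * Nat.card (P : Subgroup X) := by
      rw [← Nat.card_prod]
      refine (Nat.card_eq_of_bijective (fun z : D × (P : Subgroup X) =>
        (⟨(z.1 : X) * z.2, mul_mem (mem_sup_left z.1.2) (mem_sup_right z.2.2)⟩ : M)) ⟨?_, ?_⟩).symm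
      · rintro ⟨w, p⟩ ⟨w', p'⟩ he
        have he' : (w : X) * p = w' * p' := congrArg Subtype.val he
        have h1 : (w' : X)⁻¹ * w = p' * (p : X)⁻¹ := by
          rw [eq_mul_inv_iff_mul_eq, mul_assoc, he', inv_mul_cancel_left]
        have h2 := eq_one_of_mem P.2 hDodd (h1 ▸ mul_mem p'.2 (inv_mem p.2)) (mul_mem (inv_mem w'.2) w.2)
        have hw : (w' : X) = w := inv_mul_eq_one.1 h2
        rw [hw] at he'
        exact Prod.ext (Subtype.ext hw.symm) (Subtype.ext (mul_left_cancel he'))
      · rintro ⟨x, hx⟩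
        rw [← SetLike.mem_coe, coe_mul_of_left_le_normalizer_right D (P : Subgroup X) inf_le_left] at hx
        obtain ⟨w, hw, p, hp, rfl⟩ := hx
        exact ⟨(⟨w, hw⟩, ⟨p, hp⟩), rfl⟩
    have hcompl : ∀ L : Subgroup X, L ≤ M → Odd (Nat.card L) → Nat.card L = Nat.card D →
        IsComplement' A (L.subgroupOf M) := fun L hL hLodd hLc => by
      refine isComplement'_of_coprime ?_ ?_
      · rw [hcA, Nat.card_congr (subgroupOfEquivOfLe hL).toEquiv, hLc, hMcard, mul_comm]
      · obtain ⟨n, hn⟩ := P.2.exists_card_eq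
        rw [hcA, Nat.card_congr (subgroupOfEquivOfLe hL).toEquiv, hn]
        exact (Nat.coprime_two_left.2 hLodd).pow_left n
    have hHM : Nat.card ↥(H ⊓ M) = Nat.card D := by
      have h2 := relIndex_mul_relIndex (⊥ : Subgroup X) (H ⊓ M) M bot_le inf_le_right
      rw [relIndex_bot_left, relIndex_bot_left, inf_relIndex_right, hMcard,
        relIndex_eq P hH hk (le_sup_right : (P : Subgroup X) ≤ M)] at h2
      exact Nat.eq_of_mul_eq_mul_right Nat.card_pos h2
    obtain ⟨a, ha, he⟩ := Cfsg.Agent.S0002.result A hcoA (D.subgroupOf M) ((H ⊓ M).subgroupOf M)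
      (hcompl D le_sup_left hDodd rfl)
      (hcompl _ inf_le_right (hHM ▸ hDodd) hHM)
    refine ⟨a, ha, fun d hd => ?_⟩
    have h1 := smul_mem_pointwise_smul (⟨d, mem_sup_left hd⟩ : M) (MulAut.conj a) (D.subgroupOf M) hd
    rw [he] at h1
    exact h1.1
  -- an element of order two of `P` centralised by `D` would be the only one
  have hfix : ∀ r ∈ (P : Subgroup X), (∀ d ∈ D, r * d = d * r) → r = 1 := by
    intro r hr hcomm
    by_contra hr1
    obtain ⟨s, hsr, hs⟩ : ∃ s ∈ zpowers r, orderOf s = 2 := by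
      obtain ⟨x, hx⟩ := exists_prime_orderOf_dvd_card' (G := zpowers r) 2 (by
        rw [Nat.card_zpowers]
        obtain ⟨n, hn⟩ := IsPGroup.iff_orderOf.1 P.2 ⟨r, hr⟩
        rw [Subgroup.orderOf_mk] at hn
        rw [hn]
        refine dvd_pow_self 2 fun h0 => hr1 (orderOf_eq_one_iff.1 (by rw [hn, h0, pow_zero])))
      exact ⟨x, x.2, by rwa [Subgroup.orderOf_coe]⟩
    obtain ⟨i, rfl⟩ := mem_zpowers_iff.1 hsr
    obtain ⟨t, htP, ht, hts⟩ := htwo (r ^ i)
    obtain ⟨⟨d, hd, he⟩, -⟩ := Cfsg.Agent.S1225.result N hse u hu huN (r ^ i) t hs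
      (hPN (zpow_mem hr i)) ht (hPN htP)
    refine hts ?_
    rw [← he, ((show Commute d r from (hcomm d hd).symm).zpow_right i).eq, mul_inv_cancel_right]
  obtain ⟨p, hp, h, hh, hua⟩ := exists_mul P hH hk (u * a⁻¹)
  have hr : a * p = 1 := hfix (a * p) (mul_mem ha hp) fun d hd => by
    have hxN : a * d * a⁻¹ ∈ N := mul_mem (mul_mem (hPN ha) hd.1) (inv_mem (hPN ha))
    have h1 : (u * a⁻¹)⁻¹ * d * (u * a⁻¹) ∈ H := by
      have h2 := haD _ (hDu d hd)
      rwa [show a * (u * d * u⁻¹) * a⁻¹ = (u * a⁻¹)⁻¹ * d * (u * a⁻¹) by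
        rw [_root_.mul_inv_rev, inv_inv, Invol.inv_eq_self hu]; group] at h2
    rw [hua] at h1
    have h2 : p⁻¹ * d * p ∈ H := by
      have h3 := mul_mem (mul_mem hh h1) (inv_mem hh)
      rwa [show h * ((p * h)⁻¹ * d * (p * h)) * h⁻¹ = p⁻¹ * d * p by group] at h3
    set r := a * p with hr
    set x := a * d * a⁻¹
    have hrP : r ∈ (P : Subgroup X) := mul_mem ha hp
    have h3 : x⁻¹ * (r⁻¹ * x * r) = 1 := by
      refine eq_one_of_mem P.2 hH ?_ (mul_mem (inv_mem (haD d hd)) ?_)
      · rw [show x⁻¹ * (r⁻¹ * x * r) = (x⁻¹ * r⁻¹ * x⁻¹⁻¹) * r by group]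
        exact mul_mem ((mem_normalizer_iff.1 (inv_mem hxN) r⁻¹).1 (inv_mem hrP)) hrP
      · rwa [show r⁻¹ * x * r = p⁻¹ * d * p by simp only [r, x]; group]
    have h4 : x * r = r * x := by
      have h5 : r⁻¹ * x * r = x := (inv_mul_eq_one.1 h3).symm
      calc x * r = r * (r⁻¹ * x * r) := by group
        _ = r * x := by rw [h5]
    have h6 : a * r = r * a := hab.comm P.2 ha hrP
    have h7 : a⁻¹ * r * a = r := by rw [mul_assoc, ← h6, inv_mul_cancel_left]
    calc r * d = a⁻¹ * r * a * d := by rw [h7]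
      _ = a⁻¹ * (r * x) * a := by simp only [x]; group
      _ = a⁻¹ * (x * r) * a := by rw [h4]
      _ = d * (a⁻¹ * r * a) := by simp only [x]; group
      _ = d * r := by rw [h7]
  have hp' : p = a⁻¹ := eq_inv_of_mul_eq_one_right hr
  rw [hp'] at hua
  have hh' : h = a * u * a⁻¹ := by rw [mul_assoc, hua, mul_inv_cancel_left]
  refine absurd (hH.of_dvd_nat (?_ : 2 ∣ Nat.card H)) (by decide)
  rw [← hu, ← Invol.orderOf_conj_eq a u, ← hh', ← Subgroup.orderOf_mk h hh]
  exact orderOf_dvd_natCard _

/-- Abelian Sylow 2-subgroups and an odd subgroup of 2-power index make a group solvable. -/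
theorem isSolvable_of_odd_two_power_index : ∀ (n : ℕ) (X : Type v) [Group X] [Finite X], Nat.card X = n →
    AbTwo X → ∀ H : Subgroup X, Odd (Nat.card H) → ∀ k : ℕ, H.index = 2 ^ k → Group.IsSolvable X := by
  intro n
  induction n using Nat.strong_induction_on with
  | _ n ih =>
    intro X _ _ hn hab H hH k hk
    by_contra hns
    haveI : Fact (Nat.Prime 2) := ⟨Nat.prime_two⟩
    haveI : Nontrivial X := by
      by_contra h
      rw [not_nontrivial_iff_subsingleton] at h
      exact hns inferInstance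
    -- subgroups on which the odd factor keeps a 2-power index
    have hsub : ∀ M : Subgroup X, M ≠ ⊤ → (∃ j, H.relIndex M = 2 ^ j) → Group.IsSolvable M := by
      rintro M hM ⟨j, hj⟩
      refine ih (Nat.card M) (hn ▸ ?_) M rfl (hab.subgroup M) (H.subgroupOf M) ?_ j hj
      · exact lt_of_le_of_ne (card_le_card_group M) fun h => hM (eq_top_of_card_eq M h)
      · refine hH.of_dvd_nat ?_
        exact card_dvd_of_injective ((M.subtype.comp (H.subgroupOf M).subtype).codRestrict H fun x => x.2)
          fun x y h => Subtype.ext (Subtype.ext (congrArg Subtype.val h :))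
    have hsimple : IsSimpleGroup X := ⟨fun N hN => by
      by_contra hne
      push Not at hne
      haveI := hN
      have h1 : Group.IsSolvable N := by
        obtain ⟨j, -, hj⟩ := (Nat.dvd_prime_pow Nat.prime_two).1 (hk ▸ Kazarin.relIndex_dvd_index' H N)
        exact hsub N hne.2 ⟨j, hj⟩
      have h2 : Group.IsSolvable (X ⧸ N) := by
        obtain ⟨j, -, hj⟩ := (Nat.dvd_prime_pow Nat.prime_two).1
          (hk ▸ index_map_dvd H (QuotientGroup.mk'_surjective N))
        refine ih (Nat.card (X ⧸ N)) (hn ▸ ?_) (X ⧸ N) rfl (hab.quotient N)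
          (H.map (QuotientGroup.mk' N)) (hH.of_dvd_nat (card_map_dvd H _)) j hj
        have hc := card_eq_card_quotient_mul_card_subgroup N
        have h1 : 1 < Nat.card N := (Subgroup.one_lt_card_iff_ne_bot N).2 hne.1
        have h2 : 0 < Nat.card (X ⧸ N) := Nat.card_pos
        nlinarith
      exact hns (Group.isSolvable_of_ker_le_range N.subtype (QuotientGroup.mk' N) (by simp))⟩
    refine false_of_simple hns hab hH hk fun M hM P hPM => hsub M hM ?_
    obtain ⟨j, hj⟩ := P.2.exists_card_eq
    exact ⟨j, (relIndex_eq P hH hk hPM).trans hj⟩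

/-- A subgroup of 2-power index contains a normal subgroup with solvable quotient. -/
theorem exists_normal_le {G : Type v} [Group G] [Finite G] (hab : AbTwo G) {C : Subgroup G} {a : ℕ}
    (hC : C.index = 2 ^ a) : ∃ (N : Subgroup G) (_ : N.Normal), N ≤ C ∧ Group.IsSolvable (G ⧸ N) := by
  haveI : Fact (Nat.Prime 2) := ⟨Nat.prime_two⟩
  obtain ⟨Q⟩ : Nonempty (Sylow 2 C) := inferInstance
  set Q' := (Q : Subgroup C).map C.subtype
  obtain ⟨P, hP⟩ := (Q.2.map C.subtype : IsPGroup 2 Q').exists_le_sylow
  have hQC : Q' ≤ C := map_subtype_le _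
  -- `G = C P`
  have hinf : ∀ x ∈ C, x ∈ (P : Subgroup G) → x ∈ Q' := by
    intro x hxC hxP
    have hle : (Q : Subgroup C) ≤ (P : Subgroup G).subgroupOf C := fun y hy =>
      hP (mem_map_of_mem C.subtype hy)
    have h := Q.is_maximal' (P.2.comap_of_injective C.subtype C.subtype_injective) hle
    refine ⟨⟨x, hxC⟩, ?_, rfl⟩
    rw [SetLike.mem_coe, ← h]; exact hxP
  have hcP : Nat.card (P : Subgroup G) = 2 ^ a * Nat.card Q' := by
    rw [card_map_of_injective C.subtype_injective, P.card_eq_multiplicity, Q.card_eq_multiplicity,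
      ← card_mul_index C, hC, Nat.factorization_mul Nat.card_pos.ne' (by positivity), Finsupp.add_apply,
      Nat.prime_two.factorization_pow, Finsupp.single_eq_same, pow_add, mul_comm]
  have hprod : ∀ g : G, ∃ c ∈ C, ∃ p ∈ (P : Subgroup G), g = c * p := by
    intro g
    -- the cosets `p⁻¹ C` are all cosets
    have hsurj : Function.Surjective
        (fun z : (P : Subgroup G) ⧸ C.subgroupOf (P : Subgroup G) =>
          Quotient.liftOn' z (fun p => (QuotientGroup.mk (p : G) : G ⧸ C)) fun p q h => by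
            rw [QuotientGroup.leftRel_apply, mem_subgroupOf] at h
            exact QuotientGroup.eq.2 h) := by
      refine (Function.Injective.bijective_of_nat_card_le ?_ ?_).2
      · intro z w
        induction z using QuotientGroup.induction_on with
        | _ p => induction w using QuotientGroup.induction_on with
          | _ q =>
            intro h
            exact QuotientGroup.eq.2 (mem_subgroupOf.2 (QuotientGroup.eq.1 h))
      · rw [← index_eq_card, ← index_eq_card, hC]
        have he : Nat.card (C.subgroupOf (P : Subgroup G)) = Nat.card Q' := by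
          refine Nat.card_congr ((Equiv.subtypeSubtypeEquivSubtypeInter (· ∈ (P : Subgroup G)) (· ∈ C)).trans
            (Equiv.subtypeEquivRight fun x => ⟨fun h => hinf x h.2 h.1, fun h => ⟨hP h, hQC h⟩⟩))
        have h1 := card_mul_index (C.subgroupOf (P : Subgroup G))
        rw [he, hcP, mul_comm (2 ^ a)] at h1
        exact (Nat.eq_of_mul_eq_mul_left Nat.card_pos h1).ge
    obtain ⟨z, hz⟩ := hsurj (QuotientGroup.mk g⁻¹)
    induction z using QuotientGroup.induction_on with
    | _ p =>
      have h := QuotientGroup.eq.1 hz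
      refine ⟨((p : G)⁻¹ * g⁻¹)⁻¹, inv_mem h, (p : G)⁻¹, inv_mem p.2, ?_⟩
      group
  set N := normalClosure (Q' : Set G)
  have hNC : N ≤ C := (closure_le _).2 fun y hy => by
    obtain ⟨q, hq, hconj⟩ := Group.mem_conjugatesOfSet_iff.1 hy
    obtain ⟨g, rfl⟩ := isConj_iff.1 hconj
    obtain ⟨c, hc, p, hp, rfl⟩ := hprod g
    rw [SetLike.mem_coe, show c * p * q * (c * p)⁻¹ = c * (p * q * p⁻¹) * c⁻¹ by group,
      (hab.comm P.2 hp (hP hq)).eq, mul_inv_cancel_right]
    exact mul_mem (mul_mem hc (hQC hq)) (inv_mem hc)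
  refine ⟨N, normalClosure_normal, hNC, ?_⟩
  obtain ⟨j, -, hj⟩ := (Nat.dvd_prime_pow Nat.prime_two).1
    (hC ▸ index_map_dvd C (QuotientGroup.mk'_surjective N))
  refine isSolvable_of_odd_two_power_index _ (G ⧸ N) rfl (hab.quotient N) (C.map (QuotientGroup.mk' N)) ?_ j hj
  -- the image of `C` is odd
  let φ : C →* G ⧸ N := (QuotientGroup.mk' N).comp C.subtype
  have hr : φ.range = C.map (QuotientGroup.mk' N) := by rw [MonoidHom.range_comp, range_subtype]
  rw [← hr, ← index_ker, ← Nat.not_even_iff_odd, even_iff_two_dvd]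
  intro h2
  refine Q.not_dvd_index (h2.trans (index_dvd_of_le fun q hq => ?_))
  rw [MonoidHom.mem_ker]
  exact (QuotientGroup.eq_one_iff _).2 (subset_normalClosure (mem_map_of_mem C.subtype hq))

/-- The last term of the derived series. -/
theorem exists_perfect_residual (G : Type v) [Group G] [Finite G] (hns : ¬ Group.IsSolvable G) :
    ∃ T : Subgroup G, T.Normal ∧ T ≠ ⊥ ∧ ⁅T, T⁆ = T ∧
      ∀ N : Subgroup G, ∀ [N.Normal], Group.IsSolvable (G ⧸ N) → T ≤ N := by
  obtain ⟨n, hmin⟩ : ∃ n, ∀ m, Nat.card (derivedSeries G n) ≤ Nat.card (derivedSeries G m) :=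
    ⟨Function.argmin (fun m => Nat.card (derivedSeries G m)),
      fun m => Function.argmin_le (fun m => Nat.card (derivedSeries G m)) m⟩
  have hle : ∀ m, derivedSeries G n ≤ derivedSeries G m := fun m => by
    have h1 := eq_of_le_of_card_ge (derivedSeries_antitone G (le_max_left n m)) (hmin _)
    rw [← h1]
    exact derivedSeries_antitone G (le_max_right n m)
  refine ⟨derivedSeries G n, derivedSeries_normal G n, fun h => hns ⟨⟨n, h⟩⟩, ?_, fun N _ hs => ?_⟩
  · exact le_antisymm (derivedSeries_antitone G n.le_succ) (hle (n + 1))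
  · obtain ⟨⟨m, hm⟩⟩ := hs
    refine (hle m).trans fun x hx => ?_
    have h := map_derivedSeries_le_derivedSeries (QuotientGroup.mk' N) m (mem_map_of_mem _ hx)
    rw [hm, mem_bot] at h
    exact (QuotientGroup.eq_one_iff x).1 h

/-- A group with abelian Sylow subgroups is solvable if the largest 2-part of a class size is a class size. -/
theorem isSolvable_of_max_two_part {G : Type v} [Group G] [Finite G]
    (hA : ∀ (p : ℕ) [Fact p.Prime] (P : Sylow p G), IsMulCommutative (P : Subgroup G)) (a : ℕ)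
    (hmax : ∀ y : G, ¬ 2 ^ (a + 1) ∣ (centralizer ({y} : Set G)).index) {x : G}
    (hx : (centralizer ({x} : Set G)).index = 2 ^ a) : Group.IsSolvable G := by
  haveI : Fact (Nat.Prime 2) := ⟨Nat.prime_two⟩
  by_contra hns
  have hab : AbTwo G := abTwo_of_sylow fun P => hA 2 P
  obtain ⟨T, hTn, hT1, hperf, hTle⟩ := exists_perfect_residual G hns
  haveI := hTn
  obtain ⟨N, hNn, hNC, hNs⟩ := exists_normal_le hab hx
  haveI := hNn
  set C := centralizer ({x} : Set G)
  have hTC : T ≤ C := (hTle N hNs).trans hNC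
  have hcT : center T = ⊥ := by
    have hcomm : commutator T = ⊤ := by
      apply map_injective T.subtype_injective
      rw [T.map_subtype_commutator, hperf, ← MonoidHom.range_eq_map, range_subtype]
    have hTA : ∀ p : ℕ, p.Prime → ∀ P : Sylow p T, IsMulCommutative P := fun p hp P => by
      haveI := Fact.mk hp
      obtain ⟨Q, hQ⟩ := (P.2.map T.subtype).exists_le_sylow
      exact ⟨⟨fun b c => Subtype.ext (Subtype.ext (congrArg Subtype.val ((hA p Q).is_comm.comm
        ⟨_, hQ (mem_map_of_mem _ b.2)⟩ ⟨_, hQ (mem_map_of_mem _ c.2)⟩) :))⟩⟩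
    have h := Cfsg.Agent.S0089.result (G := T) hTA
    rwa [hcomm, top_inf_eq] at h
  have hxT : ∀ w ∈ T, Commute x w := fun w hw => (mem_centralizer_singleton_iff.1 (hTC hw)).symm
  -- all classes of `T` are odd
  have hclass : ∀ z : T, Odd ((centralizer ({z} : Set T)).index) := by
    intro z
    have hcC : centralizer ({x * (z : G)} : Set G) = C ⊓ centralizer ({(z : G)} : Set G) := by
      refine le_antisymm (fun g hg => ?_) fun g hg => ?_
      · rw [mem_centralizer_singleton_iff] at hg
        have hfix : g * x * g⁻¹ * (g * z * g⁻¹) = x * z := by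
          rw [show g * x * g⁻¹ * (g * z * g⁻¹) = g * (x * z) * g⁻¹ by group, hg, mul_inv_cancel_right]
        set w := x⁻¹ * (g * x * g⁻¹) with hw
        have hwT : w ∈ T := by
          rw [hw, show g * x * g⁻¹ = x * z * (g * (z : G) * g⁻¹)⁻¹ from eq_mul_inv_of_mul_eq hfix,
            show x⁻¹ * (x * (z : G) * (g * (z : G) * g⁻¹)⁻¹) = (z : G) * (g * (z : G) * g⁻¹)⁻¹ by group]
          exact mul_mem z.2 (inv_mem (hTn.conj_mem z z.2 g))
        have hwc : (⟨w, hwT⟩ : T) ∈ center T := mem_center_iff.2 fun τ => Subtype.ext (by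
          show (τ : G) * w = w * τ
          have h1 : Commute (g⁻¹ * (τ : G) * g⁻¹⁻¹) x := (hxT _ (hTn.conj_mem τ τ.2 g⁻¹)).symm
          have h2 : Commute (τ : G) (g * x * g⁻¹) := by
            show (τ : G) * (g * x * g⁻¹) = g * x * g⁻¹ * τ
            calc (τ : G) * (g * x * g⁻¹) = g * (g⁻¹ * (τ : G) * g⁻¹⁻¹ * x) * g⁻¹ := by group
              _ = g * (x * (g⁻¹ * (τ : G) * g⁻¹⁻¹)) * g⁻¹ := by rw [h1.eq]
              _ = _ := by group
          exact ((hxT τ τ.2).symm.inv_right).mul_right h2)
        rw [hcT, mem_bot] at hwc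
        have hgx : g * x * g⁻¹ = x := (inv_mul_eq_one.1 (congrArg Subtype.val hwc)).symm
        rw [hgx] at hfix
        exact mem_inf.2 ⟨mem_centralizer_singleton_iff.2 (mul_inv_eq_iff_eq_mul.1 hgx),
          mem_centralizer_singleton_iff.2 (mul_inv_eq_iff_eq_mul.1 (mul_left_cancel hfix))⟩
      · obtain ⟨h1, h2⟩ := mem_inf.1 hg
        exact mem_centralizer_singleton_iff.2
          ((show Commute g x from mem_centralizer_singleton_iff.1 h1).mul_right
            (mem_centralizer_singleton_iff.1 h2)).eq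
    have hrel : ¬ 2 ∣ (centralizer ({(z : G)} : Set G)).relIndex C := fun h2 => by
      refine hmax (x * z) ?_
      rw [hcC, ← relIndex_mul_index (inf_le_left : C ⊓ centralizer ({(z : G)} : Set G) ≤ C), inf_relIndex_left,
        hx, pow_succ']
      exact mul_dvd_mul_right h2 _
    haveI : (T.subgroupOf C).Normal := hTn.subgroupOf C
    have h1 := Kazarin.relIndex_dvd_index' ((centralizer ({(z : G)} : Set G)).subgroupOf C) (T.subgroupOf C)
    rw [relIndex_subgroupOf hTC] at h1
    have h2 : centralizer ({z} : Set T) = (centralizer ({(z : G)} : Set G)).subgroupOf T := by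
      ext w
      rw [mem_subgroupOf, mem_centralizer_singleton_iff, mem_centralizer_singleton_iff]
      exact Subtype.ext_iff
    rw [← Nat.not_even_iff_odd, even_iff_two_dvd, h2]
    exact fun h => hrel (h.trans h1)
  -- so a Sylow subgroup of `T` is central
  obtain ⟨Q⟩ : Nonempty (Sylow 2 T) := inferInstance
  have hQc : centralizer ((Q : Subgroup T) : Set T) = ⊤ := by
    refine PGroup.eq_top_of_forall_exists_conj_mem fun z => ?_
    obtain ⟨S⟩ : Nonempty (Sylow 2 (centralizer ({z} : Set T))) := inferInstance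
    set S' := (S : Subgroup (centralizer ({z} : Set T))).map (centralizer ({z} : Set T)).subtype
    obtain ⟨c, hc⟩ := Invol.exists_conj_mem_sylow Q (S.2.map _ : IsPGroup 2 S')
    have hcard : Nat.card S' = Nat.card (Q : Subgroup T) := by
      rw [card_map_of_injective (Subgroup.subtype_injective _), S.card_eq_multiplicity, Q.card_eq_multiplicity,
        ← card_mul_index (centralizer ({z} : Set T)), Nat.factorization_mul Nat.card_pos.ne' index_ne_zero_of_finite,
        Finsupp.add_apply, Nat.factorization_eq_zero_of_not_dvd (fun h =>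
          Nat.not_even_iff_odd.2 (hclass z) (even_iff_two_dvd.2 h)), add_zero]
    have heq : S'.map (MulAut.conj c).toMonoidHom = Q := by
      refine eq_of_le_of_card_ge ?_ ?_
      · rintro _ ⟨s, hs, rfl⟩
        exact hc s hs
      · rw [card_map_of_injective (MulEquiv.injective _), hcard]
    refine ⟨c, mem_centralizer_iff.2 fun q hq => ?_⟩
    obtain ⟨_, ⟨⟨s, hsz⟩, -, rfl⟩, rfl⟩ := heq.ge hq
    show c * s * c⁻¹ * (c * z * c⁻¹) = c * z * c⁻¹ * (c * s * c⁻¹)
    rw [show c * s * c⁻¹ * (c * z * c⁻¹) = c * (s * z) * c⁻¹ by group, mem_centralizer_singleton_iff.1 hsz]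
    group
  have hQ1 : (Q : Subgroup T) = ⊥ := eq_bot_iff.2 fun q hq => by
    rw [← hcT]
    exact mem_center_iff.2 fun g => ((mem_centralizer_iff.1 (hQc ▸ mem_top g :
      g ∈ centralizer ((Q : Subgroup T) : Set T))) q hq).symm
  have hodd : ¬ 4 ∣ Nat.card T := fun h4 => Q.not_dvd_index (by
    rw [← card_mul_index (Q : Subgroup T), hQ1, card_bot, one_mul] at h4
    rw [hQ1]
    exact (show 2 ∣ 4 by norm_num).trans h4)
  haveI := GW.isSolvable_of_not_four_dvd (G := T) hodd
  obtain ⟨⟨m, hm⟩⟩ := (inferInstance : Group.IsSolvable T)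
  have htop : ∀ j, derivedSeries T j = ⊤ := fun j => by
    induction j with
    | zero => rfl
    | succ j ih =>
      rw [derivedSeries_succ, ih, ← commutator_def]
      apply map_injective T.subtype_injective
      rw [T.map_subtype_commutator, hperf, ← MonoidHom.range_eq_map, range_subtype]
  rw [htop, ← map_eq_bot_iff_of_injective _ T.subtype_injective, ← MonoidHom.range_eq_map, range_subtype] at hm
  exact hT1 hm

end Cfsg.Lib.OddFactor
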